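import Mathlib
import Cfsg.Agent.SG.KDefs
import Cfsg.Agent.FG.CKF

set_option autoImplicit false
set_option linter.unusedVariables false

namespace Cfsg.Agent.SG

open Matrix Cfsg.Geo Module
open scoped MatrixGroups commutatorElement

variable {nn : ℕ} {F : Type*} [Field F] [Fintype F]

local notation "Mn" => Matrix (Fin nn) (Fin nn) F
local notation "SLn" => specialLinear (Fin nn) F
local notation "Zn" => scalars (Fin nn) F
local notation "GLn" => GL (Fin nn) F

open FG.CK in
theorem KQ2_eleven {G : Type*} [Group G] {V : Type*} [AddCommGroup V] [Module (ZMod 2) V] [Finite V]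
    [DistribMulAction G V] [SMulCommClass G (ZMod 2) V] {a b : V} (h : FG.CK.TwoT G V) (i : FG.CK.Ind2 a b)
    (hn : finrank (ZMod 2) V = 11) (hk : finrank (ZMod 2) (FG.CK.W G a b) = 5) : False := by
  have h1 : FG.CK.W G a b ≤ E G a b := fun y hy => mem_E.mpr fun v hv h0 h1 => by
    have i' : FG.CK.Ind2 a v := ⟨i.1, h0, h1.symm⟩
    rw [← Submodule.eq_of_le_of_finrank_eq (S₁ := FG.CK.W G a v) (S₂ := FG.CK.W G a b) (fun z hz => ?_)
      (h.finrank_W i i')] at hy
    · exact hy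
    by_contra e
    have h2 := FG.CK.count_W h i e
    have h3 := two_le_finrank (F := FG.CK.W G a b ⊓ FG.CK.W G a z) ⟨FG.CK.left_mem_W _ _, FG.CK.left_mem_W _ _⟩
      ⟨hv, mem_W_symm' h i' hz (out_of_not_mem e).1 (out_of_not_mem e).2.1⟩ i'
    have := Nat.pow_le_pow_right two_pos h3
    rw [hn, hk] at h2
    omega
  have h2 : E G a b ≤ FG.CK.W G a b := fun y hy => by
    by_cases h0 : y = 0
    · exact h0 ▸ zero_mem _
    by_cases h1 : y = a
    · exact h1 ▸ FG.CK.left_mem_W _ _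
    exact (mem_E_iff h i h0 h1).mp hy ▸ FG.CK.right_mem_W _ _
  have := (E_dvd h i).1
  rw [le_antisymm h2 h1, hn, hk] at this
  omega

/-- `FG.CK.hasTv` for a prime dimension. -/
theorem hasTv_prime {G : Type*} [Group G] {V : Type*} [AddCommGroup V] [Module (ZMod 2) V] [Finite V]
    [DistribMulAction G V] [SMulCommClass G (ZMod 2) V] [Finite G] (h : FG.CK.TwoT G V)
    (hp : (finrank (ZMod 2) V).Prime) (h11 : 11 ≤ finrank (ZMod 2) V) {P : Subgroup G}
    (hP : ∀ p ∈ P, ∀ q ∈ P, p * q = q * p) (hP' : ∀ x y : V, x ≠ 0 → y ≠ 0 → ∃ p ∈ P, p • x = y) :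
    FG.CK.HasTv G V := by
  have ho : Odd (finrank (ZMod 2) V) := hp.odd_of_ne_two (by omega)
  obtain ⟨a, b, i⟩ := FG.CK.exists_ind2 hp.two_le
  obtain ⟨x, -, i3⟩ := FG.CK.exists_out (F := (⊤ : Submodule (ZMod 2) V)) (by rw [finrank_top]; omega) a b
  obtain ⟨y, hy⟩ := FG.CK.exists_not_mem_W h ⟨i, i3⟩ i
  obtain ⟨c, hc⟩ := Nat.exists_eq_add_of_le (Submodule.finrank_le (FG.CK.W G a b))
  have h5 := FG.CK.singer_bound h hP hP' i hy hc
  by_cases h6 : c = 6
  · have h8 : finrank (ZMod 2) V = 11 ∨ finrank (ZMod 2) V = 13 ∨ finrank (ZMod 2) V = 17 := by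
      have : finrank (ZMod 2) V ≤ 18 := by omega
      generalize finrank (ZMod 2) V = n at *
      interval_cases n <;> first | omega | (exfalso; revert hp; norm_num)
    rcases h8 with e | e | e
    · exact (KQ2_eleven h i e (by omega)).elim
    · exact (FG.CK.not_thirteen h i e (by omega)).elim
    · exact (FG.CK.not_seventeen h i e (by omega)).elim
  obtain ⟨r, r1, r2, -, r3⟩ := NT.zsigmondy' (a := 2) (n := c) one_lt_two (by omega)
    (fun e => h6 e.2) fun ⟨_, m, e⟩ => by
      rcases m with _ | m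
      · omega
      · rw [pow_succ] at e; omega
  have : Fact r.Prime := ⟨r1⟩
  exact FG.CK.generic h i ⟨by omega, fun k => (r2 k).mp⟩ ((r2 c).mpr dvd_rfl) (by omega) hc h5 ho

theorem KQ2_z (hq : Fintype.card F = 2) (t : F) : t = 0 ∨ t = 1 := by
  have h := FiniteField.pow_card t
  rw [hq, pow_two] at h
  by_cases h0 : t = 0
  · exact .inl h0
  · exact .inr (mul_left_cancel₀ h0 (h.trans (mul_one t).symm))

theorem KQ2_ind (hq : Fintype.card F = 2) {a b : Fin nn → F} (h : a ≠ 0 ∧ b ≠ 0 ∧ a ≠ b) : Ind2 a b := by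
  have := Fact.mk Nat.prime_two
  have : CharP F 2 := charP_of_card_eq_prime hq
  intro s t e
  rcases KQ2_z hq s with rfl | rfl <;> rcases KQ2_z hq t with rfl | rfl
  · exact ⟨rfl, rfl⟩
  · exact absurd (by simpa using e) h.2.1
  · exact absurd (by simpa using e) h.1
  · refine absurd (funext fun i => ?_) h.2.2
    have := congrFun e i
    simp only [one_smul, Pi.add_apply, Pi.zero_apply] at this
    exact CharTwo.add_eq_zero.1 this

theorem KQ2_trans {K : Subalgebra F Mn} (hK : IsFieldSubalgebra nn K) {x y : Fin nn → F} (hx : x ≠ 0) (hy : y ≠ 0) :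
    ∃ g : GLn, (g : Mn) ∈ K ∧ (g : Mn) *ᵥ x = y := by
  let f : K →ₗ[F] (Fin nn → F) :=
    { toFun := fun k => (k : Mn) *ᵥ x
      map_add' := fun k l => add_mulVec _ _ _
      map_smul' := fun c k => smul_mulVec _ _ _ }
  have hi : Function.Injective f := (injective_iff_map_eq_zero f).2 fun k hk => by
    by_contra e
    obtain ⟨l, hl, e'⟩ := hK.inv k k.2 fun e' => e (Subtype.ext e')
    refine hx ?_
    have hk' : (k : Mn) *ᵥ x = 0 := hk
    rw [← one_mulVec x, ← e', hK.comm _ k.2 _ hl, ← mulVec_mulVec, hk', mulVec_zero]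
  obtain ⟨k, hk⟩ := (LinearMap.injective_iff_surjective_of_finrank_eq_finrank
    (by rw [hK.finrank_eq, Module.finrank_fin_fun])).1 hi y
  have hk' : (k : Mn) *ᵥ x = y := hk
  obtain ⟨l, hl, e'⟩ := hK.inv k k.2 fun e' => hy (by rw [← hk', e', zero_mulVec])
  exact ⟨⟨k, l, e', (hK.comm _ hl _ k.2).trans e'⟩, k.2, hk'⟩

theorem TwoT.hasT_two {G : Subgroup GLn} (h : TwoT G) (hn : nn.Prime) (h11 : 11 ≤ nn) (hq : Fintype.card F = 2)
    {K : Subalgebra F Mn} (hK : IsFieldSubalgebra nn K) (hS : ∀ g ∈ SLn, (g : Mn) ∈ K → g ∈ G) : HasT G := by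
  have := Fact.mk Nat.prime_two
  have : CharP F 2 := charP_of_card_eq_prime hq
  letI : Algebra (ZMod 2) F := ZMod.algebra F 2
  letI : DistribMulAction G (Fin nn → F) :=
    { smul := fun g v => ((g : GLn) : Mn) *ᵥ v
      one_smul := fun v => one_mulVec v
      mul_smul := fun g k v => (mulVec_mulVec v _ _).symm
      smul_zero := fun g => mulVec_zero _
      smul_add := fun g v w => mulVec_add _ _ _ }
  have sm : ∀ (g : G) (v : Fin nn → F), g • v = ((g : GLn) : Mn) *ᵥ v := fun _ _ => rfl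
  haveI : SMulCommClass G (ZMod 2) (Fin nn → F) := ⟨fun g c v => by
    rcases FG.CK.z2 c with rfl | rfl
    · rw [zero_smul, zero_smul, smul_zero]
    · rw [one_smul, one_smul]⟩
  have hd : finrank (ZMod 2) (Fin nn → F) = nn := by
    have h1 := FG.CK.card_V (V := Fin nn → F)
    rw [Nat.card_fun, Nat.card_eq_fintype_card, hq, Nat.card_eq_fintype_card, Fintype.card_fin] at h1
    exact (Nat.pow_right_injective le_rfl h1).symm
  have h2 : FG.CK.TwoT G (Fin nn → F) := fun a b a' b' i i' => by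
    obtain ⟨g, hg, s, t, h1, h2⟩ := h a b a' b' (KQ2_ind hq i) (KQ2_ind hq i')
    have inj : ∀ v : Fin nn → F, (g : Mn) *ᵥ v = 0 → v = 0 := fun v e => by
      rw [← one_mulVec v, ← g.inv_mul, ← mulVec_mulVec, e, mulVec_zero]
    refine ⟨⟨g, hg⟩, ?_, ?_⟩ <;> rw [sm]
    · rcases KQ2_z hq s with rfl | rfl
      · exact absurd (inj a (h1.trans (zero_smul _ _))) i.1
      · exact h1.trans (one_smul _ _)
    · rcases KQ2_z hq t with rfl | rfl
      · exact absurd (inj b (h2.trans (zero_smul _ _))) i.2.1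
      · exact h2.trans (one_smul _ _)
  let P : Subgroup G := Subgroup.centralizer {g : G | ((g : GLn) : Mn) ∈ K} ⊓
    Subgroup.centralizer (Subgroup.centralizer {g : G | ((g : GLn) : Mn) ∈ K} : Set G)
  obtain ⟨g, u, η, hu, hη, h0, ht⟩ := hasTv_prime h2 (by rwa [hd]) (by rwa [hd]) (P := P)
    (fun p hp q hq => hq.2 p hp.1) fun x y hx hy => by
      obtain ⟨g, hg, e⟩ := KQ2_trans hK hx hy
      have hG : g ∈ G := hS g (Units.ext ((KQ2_z hq _).resolve_left (Units.ne_zero _))) hg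
      exact ⟨⟨g, hG⟩, ⟨fun k hk => Subtype.ext (Units.ext (hK.comm _ hk _ hg)),
        fun k hk => (hk ⟨g, hG⟩ hg).symm⟩, e⟩
  let ζ : (Fin nn → F) →ₗ[F] F :=
    { toFun := fun v => algebraMap (ZMod 2) F (η v)
      map_add' := fun v w => by rw [map_add, map_add]
      map_smul' := fun c v => by rcases KQ2_z hq c with rfl | rfl <;> simp }
  have hζ : ∀ v, (fun i => ζ (Pi.single i 1)) ⬝ᵥ v = algebraMap (ZMod 2) F (η v) := fun v => by
    rw [dotProduct_comm]
    refine Eq.trans ?_ (LinearMap.pi_apply_eq_sum_univ ζ v).symm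
    refine Finset.sum_congr rfl fun i _ => ?_
    rw [smul_eq_mul]
    refine congrArg (fun t => v i * ζ t) (funext fun j => ?_)
    rw [Pi.single_apply]
    simp only [eq_comm]
  refine ⟨g, g.2, u, fun i => ζ (Pi.single i 1), hu, fun e => ?_, by rw [hζ, h0, map_zero], fun x => ?_⟩
  · obtain ⟨x, hx⟩ := FG.CK.exists_one hη
    have := hζ x
    rw [e, zero_dotProduct, hx, map_one] at this
    exact zero_ne_one this
  · rw [hζ, algebraMap_smul]
    exact ht x

end Cfsg.Agent.SG
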