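import Mathlib
import Cfsg.Agent.SG.KDefs
import Cfsg.Agent.SG.KCK1
import Cfsg.Agent.SG.KCK2
import Cfsg.Agent.SG.KALL
import Cfsg.Agent.SG.KSB
import Cfsg.Agent.SG.KNX
import Cfsg.Agent.SG.KTr
import Cfsg.Agent.SG.KKey
import Cfsg.Agent.SG.KQ8
import Cfsg.Agent.SG.KQ2

/-! A doubly transitive linear group of prime degree containing the norm one elements of a Singer cycle. -/

set_option autoImplicit false
set_option linter.unusedVariables false

namespace Cfsg.Agent.SG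

open Matrix Cfsg.Geo Module
open scoped MatrixGroups commutatorElement

variable {nn : ℕ} {F : Type*} [Field F] [Fintype F]

local notation "Mn" => Matrix (Fin nn) (Fin nn) F
local notation "SLn" => specialLinear (Fin nn) F
local notation "Zn" => scalars (Fin nn) F
local notation "GLn" => GL (Fin nn) F

omit [Fintype F] in
theorem KTop_cl {G K : Subgroup GLn} (hK : K ≤ G) : ⁅K, K⁆ ≤ G :=
  Subgroup.commutator_le.2 fun x hx y hy => G.mul_mem (G.mul_mem (G.mul_mem (hK hx) (hK hy))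
    (G.inv_mem (hK hx))) (G.inv_mem (hK hy))

open TV in
theorem CK.hasT {G : Subgroup GLn} (h : CK G) (ho : Odd nn) (h11 : 11 ≤ nn) (hq : 3 ≤ Fintype.card F)
    {a b : Fin nn → F} (i : Ind2 a b) {c : ℕ} (hc : finrank F (W G a b) + c = nn) (h3 : nn ≤ 3 * c) :
    HasT G := by
  obtain ⟨p, hp⟩ := CharP.exists F
  obtain ⟨f, pp, -⟩ := FiniteField.card F p
  obtain ⟨l, hl, hlo⟩ := exists_ppd (F := F) (c := c) (by omega) (by omega)
  obtain ⟨X, hX⟩ := exists_syl l hl (fix2 G a b)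
  obtain ⟨e1, e2, s, hs⟩ := hX.fx_le hl hlo (by omega) hc
  have ha : a ∈ Fx X := e1 (WB_left a b)
  have hb : b ∈ Fx X := e1 (WB_right a b)
  have a0 : a ≠ 0 := fun e => one_ne_zero (i 1 0 (by simp [e])).1
  have d2 : 2 ≤ finrank F (Fx X) := i.finrank ▸ Submodule.finrank_mono e1
  have d3 := Submodule.finrank_mono e2
  have s3 : s < 3 := lt_of_mul_lt_mul_left (a := c) (by omega) (Nat.zero_le _)
  have s2 : c * s ≤ c * 2 := Nat.mul_le_mul_left c (by omega)
  obtain ⟨N, hN⟩ : ∃ N, N = Subgroup.normalizer (X : Set GLn) ⊓ G := ⟨_, rfl⟩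
  have NG : N ≤ G := hN ▸ inf_le_right
  obtain ⟨R, hR, r0, r1, r2, r3⟩ := exists_compl (N := N) hl pp hX.pg hlo (by omega) (by omega) (hN ▸ inf_le_left)
  by_cases k : Fx X ≤ sp a b
  swap
  · obtain ⟨x, hx, hx'⟩ := SetLike.not_le_iff_exists.1 k
    have t := (hN ▸ h.trO_norm i hl hX : TrO N (Fx X)).comm.comm.comm.syl (Λ := fixS G R) pp
      fun P hP hP' g hg => ⟨KTop_cl (hP.trans (KTop_cl (KTop_cl (KTop_cl NG)))) hg, (r1 P hP hP' hg).2⟩
    have := h.key ha hb hx i hx' e2 hR t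
    omega
  have e3 : Fx X = sp a b := le_antisymm k e1
  have d4 : finrank F (Fx X) = 2 := by rw [e3, i.finrank]
  obtain ⟨r, hr⟩ := ho
  obtain rfl : s = 1 := by
    interval_cases s <;> omega
  have e4 : W G a b = sp a b := (Submodule.eq_of_le_of_finrank_le sp_le_W (by rw [i.finrank]; omega)).symm
  have sp2 : ∀ a' ∈ Fx X, ∀ b' ∈ Fx X, Ind2 a' b' → sp a' b' = Fx X := fun a' ha' b' hb' j =>
    Submodule.eq_of_le_of_finrank_le
      (by simp [Submodule.span_le, Set.insert_subset_iff, ha', hb']) (by rw [j.finrank]; omega)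
  obtain ⟨y, hy⟩ : ∃ y, y ∉ Fx X := by
    by_contra! hc'
    rw [Submodule.eq_top_iff'.2 hc', finrank_top, finrank_fin_fun] at d4
    omega
  have q : Q2 N (Fx X) := fun a' ha' b' hb' j c => by
    have j3 := (ind3_of j (sp2 a' ha' b' hb' j ▸ hy)).s23
    obtain ⟨g, hg, g1, -, g3⟩ := h.tr a' y b' j3.ind2 j3.notMem (c • a')
      (Submodule.smul_mem _ _ (Submodule.subset_span (by simp)))
    obtain ⟨k, hk, e⟩ := frattini hl hX ha hb hg fun v hv => by
      obtain ⟨s, t, rfl⟩ := Submodule.mem_span_pair.1 (sp2 a' ha' b' hb' j ▸ hv : v ∈ sp a' b')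
      simp only [mulVec_add, mulVec_smul, g1, g3]
      exact add_mem (Submodule.smul_mem _ _ ha')
        (Submodule.smul_mem _ _ (add_mem hb' (Submodule.smul_mem _ _ ha')))
    exact ⟨k, hN ▸ hk, (e _ ha').trans g1, (e _ hb').trans g3⟩
  by_cases hq' : Fintype.card F ≤ 3
  · exact h.q8 (by omega) i e4 (by omega) (e3 ▸ hR) NG r0 (e3 ▸ q)
      (r3 (by omega) ⟨r - 1, by omega⟩ (by omega))
  obtain ⟨μ, m0, m1⟩ := exists_mu hq'
  obtain ⟨g, hg, g1, g2⟩ := ((q.comm m0 m1).comm m0 m1) a ha b hb i 1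
  rw [one_smul] at g2
  refine fin (KTop_cl (KTop_cl NG) hg) a0 g1 g2 fun v => ?_
  obtain ⟨w, hw, u, hu, rfl⟩ := Submodule.mem_sup.1 (hR ▸ Submodule.mem_top : v ∈ Fx X ⊔ R)
  obtain ⟨s, t, rfl⟩ := Submodule.mem_span_pair.1 (e3 ▸ hw : w ∈ sp a b)
  refine ⟨t, ?_⟩
  rw [show s • a + t • b + u - t • b = s • a + u by abel]
  simp only [mulVec_add, mulVec_smul, g1, (r2 (by omega) hg).2 u hu]

theorem ck_top (hn : nn.Prime) (h11 : 11 ≤ nn) {G : Subgroup GLn} (hZ : Zn ≤ G) (h2 : TwoT G)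
    {K : Subalgebra F Mn} (hK : IsFieldSubalgebra nn K) (hS : ∀ g ∈ SLn, (g : Mn) ∈ K → g ∈ G) : SLn ≤ G := by
  have n3 : 3 ≤ nn := by omega
  have fl := h2.flag n3 hZ
  obtain ⟨g, hg, v, η, hv, hη, e1, e2⟩ : HasT G := by
    by_cases hq : Fintype.card F = 2
    · exact h2.hasT_two hn h11 hq hK hS
    have h : CK G := ⟨n3, hZ, h2, fl, fl.tri.tr hZ⟩
    have q1 : 1 < Fintype.card F := Fintype.one_lt_card
    have a0 : (Pi.single ⟨0, by omega⟩ 1 : Fin nn → F) ≠ 0 := by simp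
    obtain ⟨b, i⟩ := CK1.exists_ind n3 a0
    obtain ⟨c, hc⟩ := Nat.exists_eq_add_of_le
      ((Submodule.finrank_le (W G (Pi.single ⟨0, by omega⟩ 1) b)).trans (finrank_fin_fun F).le)
    exact h.hasT (hn.odd_of_ne_two (by omega)) h11 (by omega) i hc.symm (h.singer hK hS i hc.symm)
  exact fl.sl_le n3 hv hη ⟨e1, g, hg, e2⟩

end Cfsg.Agent.SG
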