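import Mathlib
import Cfsg.Agent.SG.Defs
import Cfsg.Agent.SG.KTop
import Cfsg.Agent.SG.SingA
import Cfsg.Agent.SG.Red
import Cfsg.Agent.SG.D1
import Cfsg.Agent.SG.Trans
import Cfsg.Agent.SG.NoSm
import Cfsg.Agent.SG.AntiB
import Cfsg.Agent.Cl.LinearBasic
import Cfsg.Agent.Cl.MaxBasic

set_option autoImplicit false

namespace Cfsg.Agent.SG

open Matrix Cfsg.Geo Module
open scoped MatrixGroups commutatorElement

variable {nn : ℕ} {F : Type*} [Field F] [Fintype F]

local notation "Mn" => Matrix (Fin nn) (Fin nn) F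
local notation "SLn" => specialLinear (Fin nn) F
local notation "Zn" => scalars (Fin nn) F
local notation "GLn" => GL (Fin nn) F

theorem Sit.twoT {K : Subalgebra F Mn} {S H : Subgroup GLn} {m : ℕ} (h : Sit K S H m) : TwoT H := by
  by_cases hd : nn ∣ Fintype.card F - 1
  · have hp := h.pt hd
    exact twoT_of_big (by have := h.big; omega) hp fun _ _ => h.allBig hd hp
  · exact h.twoT_one hd

omit [Fintype F] in
theorem TwoT.top_mono {G H : Subgroup GLn} (h : TwoT G) (hl : G ≤ H) : TwoT H := fun a b a' b' i i' => by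
  obtain ⟨g, hg, k⟩ := h a b a' b' i i'
  exact ⟨g, hl hg, k⟩

omit [Fintype F] in
theorem top_range : (SpecialLinearGroup.toGL : SpecialLinearGroup (Fin nn) F →* GLn).range = SLn := by
  ext g
  constructor
  · rintro ⟨y, rfl⟩
    exact Units.ext (by simp)
  · intro hg
    have h : (g : Mn).det = 1 := by
      have := congrArg Units.val (show GeneralLinearGroup.det g = 1 from hg)
      simpa using this
    exact ⟨⟨g, h⟩, Units.ext rfl⟩

omit [Fintype F] in
theorem top_perf (h3 : 3 ≤ nn) : ⁅(SLn : Subgroup GLn), SLn⁆ = SLn := by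
  have h := Cl.sl_commutator_eq_top (ι := Fin nn) (F := F) (Or.inl (by simpa using h3))
  rw [← top_range, MonoidHom.range_eq_map, ← Subgroup.map_commutator, ← commutator_def, h]

theorem top_card (h3 : 3 ≤ nn) : Fintype.card F ^ 2 ∣ Nat.card (SLn : Subgroup GLn) := by
  rw [← top_range, ← Nat.card_congr (MonoidHom.ofInjective SpecialLinearGroup.toGL_injective).toEquiv,
    Cl.card_sl, Nat.card_eq_fintype_card (α := F)]
  refine (pow_dvd_pow _ ?_).mul_right _
  simp only [Fintype.card_fin]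
  rw [Nat.le_div_iff_mul_le two_pos]
  exact (Nat.mul_le_mul (by omega) (by omega) : 2 * 2 ≤ nn * (nn - 1))

theorem top_num {q n x : ℕ} (hq : 2 ≤ q) (hn : n.Prime) (h : x * (q - 1) = q ^ n - 1) : ¬ q ^ 2 ∣ n * x := fun hd => by
  have h0 : 1 ≤ q ^ n := Nat.one_le_pow _ _ (by omega)
  have h1 : Nat.Coprime q x := by
    have e : q ^ n = x * (q - 1) + 1 := by omega
    have : Nat.Coprime (q ^ n) x := by
      rw [e, add_comm, Nat.coprime_add_mul_left_left]
      exact Nat.coprime_one_left x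
    exact Nat.Coprime.coprime_dvd_left (dvd_pow_self q hn.ne_zero) this
  have h2 := (h1.pow_left 2).dvd_of_dvd_mul_right hd
  have h3 : q ∣ n := (dvd_pow_self q two_ne_zero).trans h2
  rcases (Nat.dvd_prime hn).1 h3 with h4 | h4
  · omega
  · subst h4
    have := Nat.le_of_dvd (by omega) h2
    nlinarith

omit [Fintype F] in
theorem top_split {M : Subgroup GLn} {g : GLn} (hg : g ∈ M ⊔ Zn) : ∃ m ∈ M, ∃ z ∈ Zn, g = m * z := by
  have : (Zn : Subgroup GLn).Normal := ⟨fun z hz g => by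
    rwa [← Cl.Max.mul_comm_of_mem_scalars hz g, mul_inv_cancel_right]⟩
  obtain ⟨m, hm, z, hz, e⟩ := (Subgroup.mem_sup_of_normal_right).1 hg
  exact ⟨m, hm, z, hz, e.symm⟩

omit [Fintype F] in
theorem top_comm {M : Subgroup GLn} : ⁅M ⊔ Zn, M ⊔ Zn⁆ ≤ M := by
  refine Subgroup.commutator_le.2 fun g hg h hh => ?_
  obtain ⟨m, hm, z, hz, rfl⟩ := top_split hg
  obtain ⟨n, hn, w, hw, rfl⟩ := top_split hh
  have h1 := Cl.Max.mul_comm_of_mem_scalars hz
  have h2 := Cl.Max.mul_comm_of_mem_scalars hw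
  have : ⁅m * z, n * w⁆ = ⁅m, n⁆ := by
    simp only [commutatorElement_def, _root_.mul_inv_rev]
    calc m * z * (n * w) * (z⁻¹ * m⁻¹) * (w⁻¹ * n⁻¹)
        = m * (z * (n * w)) * z⁻¹ * (m⁻¹ * w⁻¹) * n⁻¹ := by group
      _ = m * n * (w * m⁻¹) * w⁻¹ * n⁻¹ := by rw [h1]; group
      _ = _ := by rw [h2]; group
  rw [this, commutatorElement_def]
  exact M.mul_mem (M.mul_mem (M.mul_mem hm hn) (M.inv_mem hm)) (M.inv_mem hn)

/-- The Singer normaliser is maximal in `SL_n(q)` for a prime `n ≥ 13`. -/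
theorem sl_field (hp : nn.Prime) (hn : 13 ≤ nn) {K : Subalgebra F Mn} (hK : IsFieldSubalgebra nn K) :
    IsMaximalIn SLn (subalgebraNormalizer K ⊓ SLn) := by
  obtain ⟨S, m, h⟩ := exists_sing hp (by omega) hK
  refine ⟨lt_of_le_of_ne inf_le_right fun e => ?_, fun M h1 h2 => ?_⟩
  · have := top_card (F := F) (nn := nn) (by omega)
    rw [← e, h.cardN] at this
    exact top_num Fintype.one_lt_card hp h.th this
  rcases h.red hn h1 h2 with h3 | ⟨H, h3, h4⟩
  · exact .inl (le_antisymm (le_inf h3 h2) h1)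
  refine .inr (le_antisymm h2 ?_)
  have s : SLn ≤ M ⊔ Zn := ck_top hp (by omega) le_sup_right (h4.twoT.top_mono (h3.trans le_sup_left)) hK
    fun g hg hk => Subgroup.mem_sup_left (h1 (h.le (h.tt g hg hk)))
  exact (top_perf (by omega)).symm.le.trans ((Subgroup.commutator_mono s s).trans top_comm)

end Cfsg.Agent.SG
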